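import Groth.Prelude.Def_ArtFun
import Mathlib.RingTheory.Flat.EquationalCriterion
import Mathlib.RingTheory.Nakayama
import Mathlib.RingTheory.HopkinsLevitzki

/-!
# Endomorphisms of deformations of modules with scalar endomorphisms
-/

universe u v w w'

namespace Groth.Agent.Lib.DefMod99.Endo

theorem exists_sum_of_mem_smul_top {R : Type*} [CommRing R] {F : Type*} [AddCommGroup F] [Module R F]
    {J : Ideal R} {z : F} (hz : z ∈ J • (⊤ : Submodule R F)) :
    ∃ (n : ℕ) (t : Fin n → R) (w : Fin n → F), (∀ k, t k ∈ J) ∧ z = ∑ k, t k • w k := by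
  refine Submodule.smul_induction_on hz (fun r hr x _ => ⟨1, fun _ => r, fun _ => x, fun _ => hr, by simp⟩) ?_
  rintro x y ⟨n, t, w, ht, rfl⟩ ⟨m, t', w', ht', rfl⟩
  refine ⟨n + m, Fin.append t t', Fin.append w w', ?_, ?_⟩
  · intro k
    induction k using Fin.addCases with
    | left i => simpa using ht i
    | right i => simpa using ht' i
  · simp [Fin.sum_univ_add]

theorem mem_maximalIdeal_smul_of_smul_mem {R : Type*} [CommRing R] [IsLocalRing R] {F : Type*} [AddCommGroup F]
    [Module R F] [Module.Flat R F] {J : Ideal R} {s : R} (hs : s ∉ J) {y : F}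
    (h : s • y ∈ J • (⊤ : Submodule R F)) : y ∈ IsLocalRing.maximalIdeal R • (⊤ : Submodule R F) := by
  obtain ⟨n, t, w, ht, hsum⟩ := exists_sum_of_mem_smul_top h
  have h0 : ∑ i : Option (Fin n), (i.elim s fun k => -t k) • (i.elim y w) = 0 := by
    simp [Fintype.sum_option, hsum]
  obtain ⟨k, a, v, hv, ha⟩ := Module.Flat.isTrivialRelation_of_sum_smul_eq_zero h0
  have hy : y = ∑ j, a none j • v j := hv none
  rw [hy]
  refine Submodule.sum_mem _ fun j _ => Submodule.smul_mem_smul ?_ trivial
  by_contra hu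
  obtain ⟨b, hb⟩ := (IsLocalRing.notMem_maximalIdeal.mp hu)
  refine hs ?_
  have h1 := ha j
  simp only [Fintype.sum_option, Option.elim_none, Option.elim_some] at h1
  have h2 : s * a none j ∈ J := by
    rw [eq_neg_of_add_eq_zero_left h1]
    refine Submodule.neg_mem _ (Submodule.sum_mem _ fun i _ => ?_)
    rw [neg_mul]
    exact Submodule.neg_mem _ (J.mul_mem_right _ (ht i))
  rw [← hb] at h2
  have h3 := J.mul_mem_right (↑b⁻¹ : R) h2
  rwa [mul_assoc, Units.mul_inv, mul_one] at h3

theorem smul_injective {R : Type*} [CommRing R] [IsLocalRing R] {F : Type*} [AddCommGroup F] [Module R F]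
    [Module.Flat R F] (hF : IsLocalRing.maximalIdeal R • (⊤ : Submodule R F) ≠ ⊤) {r : R}
    (h : ∀ x : F, r • x = 0) : r = 0 := by
  by_contra hr
  refine hF (Submodule.eq_top_iff'.mpr fun x => ?_)
  exact mem_maximalIdeal_smul_of_smul_mem (J := ⊥) (s := r) (by simpa using hr) (by rw [h x]; exact zero_mem _)

/-- The key statement: endomorphisms of a deformation are scalars. -/
theorem exists_smul_eq {K : Type u} [Field K] {D : Type v} [Ring D] [Algebra K D]
    {E : Type w} [AddCommGroup E] [Module K E] [Module D E]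
    (hE : ∀ ψ : E →ₗ[D] E, ∃ c : K, ∀ y : E, ψ y = c • y)
    (R : ArtFun.Art K K) {F : Type w'} [AddCommGroup F] [Module R F] [Module D F] [SMulCommClass R D F]
    [Module.Flat R F] (θ : F →ₗ[D] E) (hθ : ∀ (r : R) (x : F), θ (r • x) = R.res r • θ x)
    (hsurj : Function.Surjective θ)
    (hker : ∀ x : F, θ x = 0 ↔ x ∈ IsLocalRing.maximalIdeal R • (⊤ : Submodule R F))
    (φ : F →ₗ[R] F) (hφ : ∀ (d : D) (x : F), φ (d • x) = d • φ x) :
    ∃ r : R, ∀ x : F, φ x = r • x := by
  classical
  let S : Set (Ideal R) := {I | ∃ r : R, ∀ x : F, φ x - r • x ∈ I • (⊤ : Submodule R F)}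
  have hS : S.Nonempty := ⟨⊤, 0, fun x => by rw [← Ideal.one_eq_top, Submodule.one_smul]; trivial⟩
  obtain ⟨I, ⟨r, hr⟩, hmin⟩ := (IsWellFounded.wf : WellFounded ((· < ·) : Ideal R → Ideal R → Prop)).has_min S hS
  by_cases hI : I = ⊥
  · exact ⟨r, fun x => by simpa [hI, sub_eq_zero] using hr x⟩
  exfalso
  obtain ⟨J, hJ, hJmax⟩ := (IsWellFounded.wf : WellFounded ((· > ·) : Ideal R → Ideal R → Prop)).has_min
    {J : Ideal R | J < I} ⟨⊥, bot_lt_iff_ne_bot.mpr hI⟩
  replace hJ : J < I := hJ
  obtain ⟨s, hsI, hsJ⟩ := SetLike.exists_of_lt hJ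
  have hsup : J ⊔ Ideal.span {s} = I := by
    refine le_antisymm (sup_le hJ.le ((Ideal.span_singleton_le_iff_mem _).mpr hsI)) ?_
    by_contra hne
    refine hJmax _ (lt_of_le_of_ne (sup_le hJ.le ((Ideal.span_singleton_le_iff_mem _).mpr hsI))
      (fun he => hne he.ge)) ?_
    exact lt_of_le_of_ne le_sup_left fun he => hsJ (he ▸ Ideal.mem_sup_right (Ideal.mem_span_singleton_self s))
  have hmI : IsLocalRing.maximalIdeal R * I ≤ J := by
    by_contra hne
    have hlt : J < J ⊔ IsLocalRing.maximalIdeal R * I := lt_of_le_of_ne le_sup_left fun he => hne (he ▸ le_sup_right)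
    have hle : J ⊔ IsLocalRing.maximalIdeal R * I ≤ I := sup_le hJ.le Ideal.mul_le_right
    have heq : J ⊔ IsLocalRing.maximalIdeal R * I = I := by
      by_contra h'
      exact hJmax _ (lt_of_le_of_ne hle h') hlt
    exact hJ.not_ge (Submodule.le_of_le_smul_of_le_jacobson_bot (IsNoetherian.noetherian I)
      (IsLocalRing.maximalIdeal_le_jacobson _) (by rw [Ideal.smul_eq_mul, heq]))
  have hdec : ∀ x : F, ∃ y : F, φ x - r • x - s • y ∈ J • (⊤ : Submodule R F) := by
    intro x
    have hx := hr x
    rw [← hsup, Submodule.sup_smul, Submodule.mem_sup] at hx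
    obtain ⟨a, ha, b, hb, hab⟩ := hx
    rw [Submodule.ideal_span_singleton_smul] at hb
    obtain ⟨y, -, hy⟩ := (Submodule.mem_smul_pointwise_iff_exists b s ⊤).mp hb
    exact ⟨y, by rw [← hab, ← hy, add_sub_cancel_right]; exact ha⟩
  choose Y hY using hdec
  have hJD : ∀ (d : D) (z : F), z ∈ J • (⊤ : Submodule R F) → d • z ∈ J • (⊤ : Submodule R F) := by
    intro d z hz
    obtain ⟨n, t, w, ht, rfl⟩ := exists_sum_of_mem_smul_top hz
    rw [Finset.smul_sum]
    refine Submodule.sum_mem _ fun i _ => ?_
    rw [← smul_comm (t i) d (w i)]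
    exact Submodule.smul_mem_smul (ht i) trivial
  have huniq : ∀ y y' : F, s • (y - y') ∈ J • (⊤ : Submodule R F) → θ y = θ y' := by
    intro y y' h
    rw [← sub_eq_zero, ← map_sub]
    exact (hker _).mpr (mem_maximalIdeal_smul_of_smul_mem hsJ h)
  have hYadd : ∀ x x', θ (Y (x + x')) = θ (Y x) + θ (Y x') := by
    intro x x'
    rw [← map_add]
    refine huniq _ _ ?_
    have := Submodule.sub_mem _ (Submodule.add_mem _ (hY x) (hY x')) (hY (x + x'))
    convert this using 1
    simp only [map_add, smul_sub, smul_add]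
    abel
  have hYD : ∀ (d : D) x, θ (Y (d • x)) = d • θ (Y x) := by
    intro d x
    rw [← map_smul]
    refine huniq _ _ ?_
    have := Submodule.sub_mem _ (hJD d _ (hY x)) (hY (d • x))
    convert this using 1
    rw [hφ, smul_sub, smul_sub, smul_sub, ← smul_comm s d (Y x), ← smul_comm r d x]
    abel
  have hYm : ∀ x, θ x = 0 → θ (Y x) = 0 := by
    intro x hx
    rw [← map_zero θ]
    refine huniq _ _ ?_
    have hx' : φ x - r • x ∈ J • (⊤ : Submodule R F) := by
      have hle : IsLocalRing.maximalIdeal R • (⊤ : Submodule R F) ≤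
          Submodule.comap (φ - r • (LinearMap.id : F →ₗ[R] F)) (J • (⊤ : Submodule R F)) := by
        refine Submodule.smul_le.mpr fun m hm z _ => ?_
        rw [Submodule.mem_comap]
        rw [map_smul]
        have h1 : m • (φ z - r • z) ∈ (IsLocalRing.maximalIdeal R * I) • (⊤ : Submodule R F) := by
          rw [← Ideal.smul_eq_mul, Submodule.smul_assoc]
          exact Submodule.smul_mem_smul hm (hr z)
        exact Submodule.smul_mono_left hmI h1
      exact hle ((hker x).mp hx)
    rw [sub_zero]
    have := Submodule.sub_mem _ hx' (hY x)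
    simpa using this
  let ψ : E →ₗ[D] E :=
    { toFun := fun e => θ (Y (Function.surjInv hsurj e))
      map_add' := fun e e' => by
        rw [← hYadd, ← sub_eq_zero, ← sub_eq_zero]
        simp only [sub_zero]
        have h0 : θ (Function.surjInv hsurj (e + e') - (Function.surjInv hsurj e + Function.surjInv hsurj e')) = 0 := by
          simp [map_sub, map_add, Function.surjInv_eq hsurj]
        have h1 := hYm _ h0
        have h2 := hYadd (Function.surjInv hsurj (e + e') - (Function.surjInv hsurj e + Function.surjInv hsurj e'))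
          (Function.surjInv hsurj e + Function.surjInv hsurj e')
        rw [sub_add_cancel, h1, zero_add] at h2
        rw [h2, sub_self]
      map_smul' := fun d e => by
        rw [RingHom.id_apply, ← hYD]
        have h0 : θ (Function.surjInv hsurj (d • e) - d • Function.surjInv hsurj e) = 0 := by
          simp [map_sub, Function.surjInv_eq hsurj]
        have h1 := hYm _ h0
        have h2 := hYadd (Function.surjInv hsurj (d • e) - d • Function.surjInv hsurj e) (d • Function.surjInv hsurj e)
        rw [sub_add_cancel, h1, zero_add] at h2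
        exact h2 }
  obtain ⟨c, hc⟩ := hE ψ
  have hψ : ∀ x, θ (Y x) = c • θ x := by
    intro x
    rw [← hc]
    have h0 : θ (x - Function.surjInv hsurj (θ x)) = 0 := by
      simp [map_sub, Function.surjInv_eq hsurj]
    have h2 := hYadd (x - Function.surjInv hsurj (θ x)) (Function.surjInv hsurj (θ x))
    rw [sub_add_cancel, hYm _ h0, zero_add] at h2
    exact h2
  refine hmin J ⟨r + s * algebraMap K R c, fun x => ?_⟩ hJ
  have h3 : θ (Y x - algebraMap K R c • x) = 0 := by
    rw [map_sub, hθ, hψ, AlgHom.commutes]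
    simp
  have h4 : s • (Y x - algebraMap K R c • x) ∈ J • (⊤ : Submodule R F) := by
    have hle : IsLocalRing.maximalIdeal R • (⊤ : Submodule R F) ≤
        Submodule.comap (s • (LinearMap.id : F →ₗ[R] F)) (J • (⊤ : Submodule R F)) := by
      refine Submodule.smul_le.mpr fun m hm z _ => ?_
      rw [Submodule.mem_comap, LinearMap.smul_apply, LinearMap.id_apply]
      rw [smul_smul]
      refine Submodule.smul_mem_smul (hmI ?_) trivial
      rw [mul_comm s m]
      exact Ideal.mul_mem_mul hm hsI
    exact hle ((hker _).mp h3)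
  have := Submodule.add_mem _ (hY x) h4
  convert this using 1
  rw [smul_sub, add_smul, mul_smul]
  abel

end Groth.Agent.Lib.DefMod99.Endo
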