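import Mathlib.RingTheory.TensorProduct.Basic
import Mathlib.LinearAlgebra.TensorProduct.Basis
import Mathlib.LinearAlgebra.Basis.VectorSpace
import Mathlib.Algebra.Module.FinitePresentation

/-!
# Base change of `Hom_D`
-/

universe u v w w' u'

open scoped TensorProduct

namespace Groth.Agent.Lib.DefMod99.HomBC

variable {K : Type u} [Field K] (P : Type u') [CommRing P] [Algebra K P] {ι : Type*} (b : Module.Basis ι K P)

/-- Coordinate. -/
noncomputable def co {X : Type*} [AddCommGroup X] [Module K X] (i : ι) : P ⊗[K] X →ₗ[K] X :=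
  (TensorProduct.lid K X).toLinearMap ∘ₗ TensorProduct.map (b.coord i) LinearMap.id

@[simp] theorem co_tmul {X : Type*} [AddCommGroup X] [Module K X] (i : ι) (p : P) (x : X) :
    co P b i (p ⊗ₜ[K] x) = b.repr p i • x := by
  simp [co]

theorem ext_co {X : Type*} [AddCommGroup X] [Module K X] {x y : P ⊗[K] X} (h : ∀ i, co P b i x = co P b i y) :
    x = y := by
  classical
  refine (TensorProduct.equivFinsuppOfBasisLeft b).injective (Finsupp.ext fun i => ?_)
  have key : ∀ z : P ⊗[K] X, TensorProduct.equivFinsuppOfBasisLeft b z i = co P b i z := by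
    intro z
    induction z using TensorProduct.induction_on with
    | zero => simp
    | tmul m w => simp [TensorProduct.equivFinsuppOfBasisLeft_apply_tmul_apply]
    | add a c ha hc => simp [ha, hc]
  rw [key, key, h]

theorem co_baseChange {X Y : Type*} [AddCommGroup X] [Module K X] [AddCommGroup Y] [Module K Y]
    (f : X →ₗ[K] Y) (i : ι) (z : P ⊗[K] X) : co P b i (f.baseChange P z) = f (co P b i z) := by
  induction z using TensorProduct.induction_on with
  | zero => simp
  | tmul m w => simp
  | add a c ha hc => simp [ha, hc]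

theorem exists_finset {X : Type*} [AddCommGroup X] [Module K X] (z : P ⊗[K] X) :
    ∃ S : Finset ι, ∀ i ∉ S, co P b i z = 0 := by
  classical
  induction z using TensorProduct.induction_on with
  | zero => exact ⟨∅, fun i _ => by simp⟩
  | tmul m w => exact ⟨(b.repr m).support, fun i hi => by simp [Finsupp.notMem_support_iff.mp hi]⟩
  | add a c ha hc =>
    obtain ⟨S, hS⟩ := ha
    obtain ⟨T, hT⟩ := hc
    exact ⟨S ∪ T, fun i hi => by
      rw [map_add, hS i (fun h => hi (Finset.mem_union_left _ h)), hT i (fun h => hi (Finset.mem_union_right _ h)),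
        add_zero]⟩

variable {D : Type v} [Ring D] [Algebra K D]
  {E : Type w} [AddCommGroup E] [Module K E] [Module D E] [IsScalarTower K D E]
  {F : Type w'} [AddCommGroup F] [Module K F] [Module D F] [IsScalarTower K D F]

theorem injective_and_range [Module.FinitePresentation D E]
    (Φ : P ⊗[K] (E →ₗ[D] F) →ₗ[P] (P ⊗[K] E →ₗ[P] P ⊗[K] F))
    (hΦ : ∀ (p : P) (f : E →ₗ[D] F), Φ (p ⊗ₜ[K] f) = p • (f.restrictScalars K).baseChange P) :
    Function.Injective Φ ∧
      ∀ g : P ⊗[K] E →ₗ[P] P ⊗[K] F,
        g ∈ LinearMap.range Φ ↔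
          ∀ d : D, g ∘ₗ (DistribSMul.toLinearMap K E d).baseChange P =
            (DistribSMul.toLinearMap K F d).baseChange P ∘ₗ g := by
  classical
  obtain ⟨b⟩ : Nonempty (Module.Basis (Module.Basis.ofVectorSpaceIndex K P) K P) := ⟨Module.Basis.ofVectorSpace K P⟩
  have key : ∀ (t : P ⊗[K] (E →ₗ[D] F)) (i) (e : E), co P b i (Φ t (1 ⊗ₜ[K] e)) = (co P b i t) e := by
    intro t i e
    induction t using TensorProduct.induction_on with
    | zero => simp
    | tmul p f => simp [hΦ, TensorProduct.smul_tmul']
    | add x y hx hy => simp [hx, hy]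
  refine ⟨?_, fun g => ⟨?_, fun hg => ?_⟩⟩
  · rw [injective_iff_map_eq_zero]
    intro t ht
    refine ext_co P b fun i => LinearMap.ext fun e => ?_
    rw [← key, ht]
    simp
  · rintro ⟨t, rfl⟩ d
    induction t using TensorProduct.induction_on with
    | zero => simp
    | tmul p f =>
      refine TensorProduct.AlgebraTensorModule.ext fun q e => ?_
      simp [hΦ, TensorProduct.smul_tmul']
    | add x y hx hy => simp [LinearMap.add_comp, LinearMap.comp_add, hx, hy]
  · let fi : Module.Basis.ofVectorSpaceIndex K P → (E →ₗ[D] F) := fun i =>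
      { toFun := fun e => co P b i (g (1 ⊗ₜ[K] e))
        map_add' := fun e e' => by simp [TensorProduct.tmul_add]
        map_smul' := fun d e => by
          have := LinearMap.congr_fun (hg d) (1 ⊗ₜ[K] e)
          simp only [LinearMap.comp_apply, LinearMap.baseChange_tmul, DistribSMul.toLinearMap_apply] at this
          rw [RingHom.id_apply, this, co_baseChange, DistribSMul.toLinearMap_apply] }
    obtain ⟨G, hG⟩ := (Module.Finite.fg_top : (⊤ : Submodule D E).FG)
    choose S hS using fun e : E => exists_finset P b (g (1 ⊗ₜ[K] e))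
    refine ⟨∑ i ∈ G.biUnion S, b i ⊗ₜ[K] fi i, ?_⟩
    refine TensorProduct.AlgebraTensorModule.ext fun q e => ?_
    have h1 : q ⊗ₜ[K] e = q • ((1 : P) ⊗ₜ[K] e) := by rw [TensorProduct.smul_tmul', smul_eq_mul, mul_one]
    rw [h1, map_smul, map_smul]
    congr 1
    refine ext_co P b fun i => ?_
    rw [key, map_sum]
    simp only [co_tmul, Module.Basis.repr_self, Finsupp.single_apply, ite_smul, one_smul, zero_smul]
    rw [Finset.sum_ite_eq']
    split_ifs with h
    · rfl
    · have hz : fi i = 0 := by
        refine LinearMap.ext_on (s := (G : Set E)) hG fun x hx => ?_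
        exact hS x i fun h' => h (Finset.mem_biUnion.mpr ⟨x, hx, h'⟩)
      exact (LinearMap.congr_fun hz e).symm

end Groth.Agent.Lib.DefMod99.HomBC
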