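import Mathlib.RingTheory.TensorProduct.Basic
import Mathlib.FieldTheory.IsAlgClosed.AlgebraicClosure
import Mathlib.FieldTheory.IntermediateField.Adjoin.Basic
import Mathlib.Algebra.Module.FinitePresentation
import Mathlib.RingTheory.IntegralClosure.Algebra.Basic
import Mathlib.RingTheory.Flat.Basic
import Mathlib.LinearAlgebra.Basis.VectorSpace
import Mathlib.RingTheory.Adjoin.Field

/-!
# Absolute irreducibility
-/

universe u v w

open scoped TensorProduct

namespace Groth.Agent.Lib.DefMod99.Irred

variable {K : Type u} [Field K] {D : Type v} [Ring D] [Algebra K D]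
  {E : Type w} [AddCommGroup E] [Module K E] [Module D E] [IsScalarTower K D E]

section

variable {L M : Type*} [Field L] [Algebra K L] [Field M] [Algebra K M] (j : L →ₐ[K] M)

theorem map_smul' (l : L) (x : L ⊗[K] E) :
    TensorProduct.map j.toLinearMap LinearMap.id (l • x) = j l • TensorProduct.map j.toLinearMap LinearMap.id x := by
  induction x using TensorProduct.induction_on with
  | zero => simp
  | tmul m e => simp [TensorProduct.smul_tmul']
  | add a b ha hb => simp [smul_add, ha, hb]

theorem map_baseChange (f : E →ₗ[K] E) (x : L ⊗[K] E) :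
    TensorProduct.map j.toLinearMap LinearMap.id (f.baseChange L x) =
      f.baseChange M (TensorProduct.map j.toLinearMap LinearMap.id x) := by
  induction x using TensorProduct.induction_on with
  | zero => simp
  | tmul m e => simp
  | add a b ha hb => simp [ha, hb]

theorem map_injective : Function.Injective (TensorProduct.map j.toLinearMap (LinearMap.id : E →ₗ[K] E)) :=
  Module.Flat.rTensor_preserves_injective_linearMap (M := E) j.toLinearMap j.toRingHom.injective

theorem nontrivial_of_tensor (L : Type*) [Field L] [Algebra K L] (h : Nontrivial (L ⊗[K] E)) : Nontrivial E := by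
  by_contra hE
  rw [not_nontrivial_iff_subsingleton] at hE
  refine not_subsingleton_iff_nontrivial.mpr h ⟨fun x y => ?_⟩
  have h0 : ∀ z : L ⊗[K] E, z = 0 := fun z => by
    induction z using TensorProduct.induction_on with
    | zero => rfl
    | tmul m e => rw [Subsingleton.elim e 0, TensorProduct.tmul_zero]
    | add a b ha hb => rw [ha, hb, add_zero]
  rw [h0 x, h0 y]

theorem one_tmul_injective (L : Type*) [Field L] [Algebra K L] :
    Function.Injective (fun e : E => (1 : L) ⊗ₜ[K] e) := by
  have h := Module.Flat.rTensor_preserves_injective_linearMap (M := E) (Algebra.linearMap K L) (algebraMap K L).injective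
  intro a b hab
  refine (TensorProduct.lid K E).symm.injective (h ?_)
  simpa using hab

theorem nontrivial_tensor (L : Type*) [Field L] [Algebra K L] [Nontrivial E] : Nontrivial (L ⊗[K] E) := by
  obtain ⟨e, he⟩ := exists_ne (0 : E)
  refine ⟨(1 : L) ⊗ₜ[K] e, 0, fun h => he ?_⟩
  exact one_tmul_injective (K := K) L (by simpa using h)

theorem descend (j : L →ₐ[K] M)
    (h : Nontrivial (M ⊗[K] E) ∧ ∀ N : Submodule M (M ⊗[K] E), (∀ (d : D) (x : M ⊗[K] E), x ∈ N → (DistribSMul.toLinearMap K E d).baseChange M x ∈ N) → N = ⊥ ∨ N = ⊤) :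
    Nontrivial (L ⊗[K] E) ∧ ∀ N : Submodule L (L ⊗[K] E), (∀ (d : D) (x : L ⊗[K] E), x ∈ N → (DistribSMul.toLinearMap K E d).baseChange L x ∈ N) → N = ⊥ ∨ N = ⊤ := by
  have := nontrivial_of_tensor M h.1
  refine ⟨nontrivial_tensor L, fun N hN => ?_⟩
  let i : L ⊗[K] E →ₗ[K] M ⊗[K] E := TensorProduct.map j.toLinearMap LinearMap.id
  let N' : Submodule M (M ⊗[K] E) := Submodule.span M (i '' (N : Set (L ⊗[K] E)))
  have hst : ∀ (d : D) (x : M ⊗[K] E), x ∈ N' → (DistribSMul.toLinearMap K E d).baseChange M x ∈ N' := by
    intro d x hx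
    induction hx using Submodule.span_induction with
    | mem y hy =>
      obtain ⟨z, hz, rfl⟩ := hy
      exact Submodule.subset_span ⟨_, hN d z hz, map_baseChange j _ z⟩
    | zero => simp
    | add a b _ _ ha hb => rw [map_add]; exact add_mem ha hb
    | smul c a _ ha => rw [map_smul]; exact N'.smul_mem c ha
  letI : Algebra L M := j.toRingHom.toAlgebra
  haveI : IsScalarTower K L M := IsScalarTower.of_algebraMap_eq fun k => (j.commutes k).symm
  obtain ⟨ρ, hρ⟩ := LinearMap.exists_leftInverse_of_injective (Algebra.linearMap L M)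
    (LinearMap.ker_eq_bot.mpr (algebraMap L M).injective)
  have hρ1 : ∀ l : L, ρ (j l) = l := fun l => LinearMap.congr_fun hρ l
  let P : M ⊗[K] E →ₗ[K] L ⊗[K] E := TensorProduct.map (ρ.restrictScalars K) LinearMap.id
  have hP : ∀ (a : M) (z : L ⊗[K] E), P (a • i z) = ρ a • z := by
    intro a z
    induction z using TensorProduct.induction_on with
    | zero => simp
    | tmul l e =>
      have h1 : ρ (a * j l) = ρ a * l := by
        rw [mul_comm, show j l * a = l • a from rfl, map_smul, smul_eq_mul, mul_comm]
      simp only [i, P, TensorProduct.map_tmul, AlgHom.toLinearMap_apply, LinearMap.id_coe, id_eq,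
        TensorProduct.smul_tmul', smul_eq_mul, LinearMap.coe_restrictScalars, h1]
    | add x y hx hy => simp only [map_add, smul_add, hx, hy]
  rcases h.2 N' hst with h' | h'
  · left
    refine (Submodule.eq_bot_iff _).mpr fun z hz => map_injective j ?_
    rw [map_zero]
    exact (Submodule.eq_bot_iff _).mp h' _ (Submodule.subset_span ⟨z, hz, rfl⟩)
  · right
    refine Submodule.eq_top_iff'.mpr fun z => ?_
    have key : ∀ (y : M ⊗[K] E), y ∈ N' → ∀ a : M, P (a • y) ∈ N := by
      intro y hy
      induction hy using Submodule.span_induction with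
      | mem y hy =>
        obtain ⟨w, hw, rfl⟩ := hy
        intro a
        rw [hP]
        exact N.smul_mem _ hw
      | zero => intro a; simp
      | add a b _ _ ha hb => intro c; rw [smul_add, map_add]; exact add_mem (ha c) (hb c)
      | smul c a _ ha => intro d; rw [smul_smul]; exact ha _
    have h1 := key (i z) (h'.symm ▸ trivial) 1
    rwa [hP, ← map_one j, hρ1, one_smul] at h1

end

theorem exists_finite_field {L : Type u} [Field L] [Algebra K L] [Algebra.IsAlgebraic K L] (x : L ⊗[K] E) :
    ∃ (F : IntermediateField K L), FiniteDimensional K F ∧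
      x ∈ LinearMap.range (TensorProduct.map F.val.toLinearMap (LinearMap.id : E →ₗ[K] E)) := by
  classical
  obtain ⟨S, hS⟩ := TensorProduct.exists_finset x
  let T : Set L := (S.image Prod.fst : Finset L)
  have : Finite T := (S.image Prod.fst).finite_toSet.to_subtype
  refine ⟨IntermediateField.adjoin K T, IntermediateField.finiteDimensional_adjoin fun l _ =>
    Algebra.IsIntegral.isIntegral l, ?_⟩
  rw [hS]
  refine Submodule.sum_mem _ fun i hi => ?_
  exact ⟨(⟨i.1, IntermediateField.subset_adjoin K T (Finset.mem_coe.mpr (Finset.mem_image_of_mem _ hi))⟩ :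
    IntermediateField.adjoin K T) ⊗ₜ[K] i.2, by simp⟩

theorem iff_forall :
    (Nontrivial (AlgebraicClosure K ⊗[K] E) ∧ ∀ N : Submodule (AlgebraicClosure K) (AlgebraicClosure K ⊗[K] E), (∀ (d : D) (x : AlgebraicClosure K ⊗[K] E), x ∈ N → (DistribSMul.toLinearMap K E d).baseChange (AlgebraicClosure K) x ∈ N) → N = ⊥ ∨ N = ⊤) ↔
      ∀ (L : Type u) [Field L] [Algebra K L] [FiniteDimensional K L],
        (Nontrivial (L ⊗[K] E) ∧ ∀ N : Submodule (L) (L ⊗[K] E), (∀ (d : D) (x : L ⊗[K] E), x ∈ N → (DistribSMul.toLinearMap K E d).baseChange (L) x ∈ N) → N = ⊥ ∨ N = ⊤) := by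
  refine ⟨fun h L _ _ _ => descend (IsAlgClosed.lift (R := K) (S := L) (M := AlgebraicClosure K)) h, fun h => ?_⟩
  have := nontrivial_of_tensor K (h K).1
  refine ⟨nontrivial_tensor _, fun N hN => ?_⟩
  by_cases hb : N = ⊥
  · exact Or.inl hb
  right
  obtain ⟨x, hx, hx0⟩ := (Submodule.ne_bot_iff _).mp hb
  obtain ⟨F, hF, x', hx'⟩ := exists_finite_field x
  let NF : Submodule F (F ⊗[K] E) :=
    { carrier := {z | TensorProduct.map F.val.toLinearMap (LinearMap.id : E →ₗ[K] E) z ∈ N}
      add_mem' := fun {a b} ha hb => by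
        show TensorProduct.map F.val.toLinearMap LinearMap.id (a + b) ∈ N
        rw [map_add]
        exact add_mem ha hb
      zero_mem' := by
        show TensorProduct.map F.val.toLinearMap LinearMap.id 0 ∈ N
        rw [map_zero]
        exact zero_mem _
      smul_mem' := fun c a ha => by
        show TensorProduct.map F.val.toLinearMap LinearMap.id (c • a) ∈ N
        rw [map_smul' F.val]
        exact N.smul_mem _ ha }
  have hNF : ∀ (d : D) (z : F ⊗[K] E), z ∈ NF → (DistribSMul.toLinearMap K E d).baseChange F z ∈ NF := by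
    intro d z hz
    show TensorProduct.map F.val.toLinearMap LinearMap.id _ ∈ N
    rw [map_baseChange F.val]
    exact hN d _ hz
  have hne : NF ≠ ⊥ := fun he => hx0 (by
    have hm : x' ∈ NF := by
      show TensorProduct.map F.val.toLinearMap LinearMap.id x' ∈ N
      rw [hx']
      exact hx
    rw [he] at hm
    rw [← hx', (Submodule.mem_bot _).mp hm, map_zero])
  have htop : NF = ⊤ := ((h F).2 NF hNF).resolve_left hne
  refine Submodule.eq_top_iff'.mpr fun z => ?_
  induction z using TensorProduct.induction_on with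
  | zero => exact zero_mem _
  | tmul a e =>
    have h1 : (1 : AlgebraicClosure K) ⊗ₜ[K] e ∈ N := by
      have h2 : (1 : F) ⊗ₜ[K] e ∈ NF := htop.symm ▸ trivial
      have h3 : TensorProduct.map F.val.toLinearMap LinearMap.id ((1 : F) ⊗ₜ[K] e) ∈ N := h2
      simpa using h3
    have := N.smul_mem a h1
    rwa [TensorProduct.smul_tmul', smul_eq_mul, mul_one] at this
  | add a b ha hb => exact add_mem ha hb

theorem exists_smul_eq [Module.Finite K (E →ₗ[D] E)]
    (habs : (Nontrivial (AlgebraicClosure K ⊗[K] E) ∧ ∀ N : Submodule (AlgebraicClosure K) (AlgebraicClosure K ⊗[K] E), (∀ (d : D) (x : AlgebraicClosure K ⊗[K] E), x ∈ N → (DistribSMul.toLinearMap K E d).baseChange (AlgebraicClosure K) x ∈ N) → N = ⊥ ∨ N = ⊤))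
    (φ : E →ₗ[D] E) : ∃ c : K, ∀ x : E, φ x = c • x := by
  let Kb := AlgebraicClosure K
  have hnt := habs.1
  have : Module.Finite K (Module.End D E) := ‹Module.Finite K (E →ₗ[D] E)›
  obtain ⟨p, hp, hp0⟩ := IsIntegral.of_finite K (φ : Module.End D E)
  let χ : Module.End D E →ₐ[K] Module.End Kb (Kb ⊗[K] E) :=
    { toFun := fun f => (f.restrictScalars K).baseChange Kb
      map_one' := TensorProduct.AlgebraTensorModule.ext fun a e => by simp
      map_mul' := fun f g => TensorProduct.AlgebraTensorModule.ext fun a e => by simp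
      map_zero' := TensorProduct.AlgebraTensorModule.ext fun a e => by simp
      map_add' := fun f g => TensorProduct.AlgebraTensorModule.ext fun a e => by simp [TensorProduct.tmul_add]
      commutes' := fun k => TensorProduct.AlgebraTensorModule.ext fun a e => by
        simp [Algebra.algebraMap_eq_smul_one] }
  have hT : Polynomial.aeval (χ φ) (p.map (algebraMap K Kb)) = 0 := by
    rw [Polynomial.aeval_map_algebraMap, Polynomial.aeval_algHom_apply, Polynomial.aeval_def, hp0, map_zero]
  obtain ⟨c, hc⟩ : ∃ c : Kb, LinearMap.ker (χ φ - algebraMap Kb _ c) ≠ ⊥ := by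
    by_contra hcon
    simp only [not_exists, not_not] at hcon
    have hsp : (p.map (algebraMap K Kb)).Splits := IsAlgClosed.splits _
    rw [hsp.eq_prod_roots, (hp.map _).leadingCoeff, Polynomial.C_1, one_mul] at hT
    have inj : ∀ s : Multiset Kb, Function.Injective
        (Polynomial.aeval (χ φ) (s.map fun a => Polynomial.X - Polynomial.C a).prod) := by
      intro s
      induction s using Multiset.induction_on with
      | empty => intro a b h; simpa using h
      | cons a s ih =>
        rw [Multiset.map_cons, Multiset.prod_cons, map_mul, map_sub, Polynomial.aeval_X, Polynomial.aeval_C]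
        exact (LinearMap.ker_eq_bot.mp (hcon a)).comp ih
    obtain ⟨z, hz⟩ := exists_ne (0 : Kb ⊗[K] E)
    exact hz (inj (p.map (algebraMap K Kb)).roots (by rw [hT]; simp))
  have htop := (habs.2 (LinearMap.ker (χ φ - algebraMap Kb _ c)) fun d x hx => by
    have hcomm : ∀ z, χ φ ((DistribSMul.toLinearMap K E d).baseChange Kb z) =
        (DistribSMul.toLinearMap K E d).baseChange Kb (χ φ z) := by
      intro z
      induction z using TensorProduct.induction_on with
      | zero => simp
      | tmul a e => simp [χ]
      | add a b ha hb => simp only [map_add, ha, hb]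
    rw [LinearMap.mem_ker, LinearMap.sub_apply, sub_eq_zero, Module.algebraMap_end_apply] at hx ⊢
    rw [hcomm, hx, map_smul]).resolve_left hc
  have hsc : ∀ e : E, (1 : Kb) ⊗ₜ[K] φ e = c ⊗ₜ[K] e := by
    intro e
    have h1 : (1 : Kb) ⊗ₜ[K] e ∈ LinearMap.ker (χ φ - algebraMap Kb _ c) := htop.symm ▸ trivial
    rw [LinearMap.mem_ker, LinearMap.sub_apply, sub_eq_zero, Module.algebraMap_end_apply] at h1
    simpa [χ, TensorProduct.smul_tmul'] using h1
  have := nontrivial_of_tensor Kb hnt
  obtain ⟨e, he⟩ := exists_ne (0 : E)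
  obtain ⟨f, hf⟩ := LinearMap.exists_leftInverse_of_injective (LinearMap.toSpanSingleton K E e)
    (LinearMap.ker_toSpanSingleton K he)
  have hf1 : f e = 1 := by simpa using LinearMap.congr_fun hf 1
  have hck : c = algebraMap K Kb (f (φ e)) := by
    have h2 := congrArg (fun z => TensorProduct.rid K Kb (TensorProduct.map LinearMap.id f z)) (hsc e)
    simp only [TensorProduct.map_tmul, LinearMap.id_coe, id_eq, TensorProduct.rid_tmul, hf1, one_smul] at h2
    rw [← h2, Algebra.algebraMap_eq_smul_one]
  refine ⟨f (φ e), fun x => ?_⟩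
  apply one_tmul_injective (K := K) Kb
  show (1 : Kb) ⊗ₜ[K] φ x = (1 : Kb) ⊗ₜ[K] (f (φ e) • x)
  rw [hsc, hck, TensorProduct.tmul_smul, TensorProduct.smul_tmul', Algebra.algebraMap_eq_smul_one]

end Groth.Agent.Lib.DefMod99.Irred
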